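import Groth.Agent.Lib.PerfCl20.Ring
import Mathlib.FieldTheory.IsPerfectClosure
import Mathlib.RingTheory.RingHom.FaithfullyFlat
import Mathlib.RingTheory.Spectrum.Prime.Homeomorph
import Mathlib.RingTheory.IntegralClosure.IsIntegral.Basic

/-!
# Perfect closures of ring maps
-/

set_option autoImplicit false
universe u

namespace Groth.Agent.PerfClosure23

variable (p : ℕ) [Fact p.Prime] {A B : Type u} [CommRing A] [CommRing B] [CharP A p] [CharP B p]
  [PerfectRing B p] (i : A →+* B) [IsPerfectClosure i p]

lemma isPerfMap : PerfCl20.IsPerfMap p i where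
  perfect := bijective_frobenius B p
  ker a ha := mem_pNilradical.mp (IsPRadical.ker_le i p ha)
  range b := IsPRadical.pow_mem i p b

include p in
lemma isHomeomorph_comap : IsHomeomorph (PrimeSpectrum.comap i) := by
  refine PrimeSpectrum.isHomeomorph_comap i (fun b => ?_) fun a ha => ?_
  · obtain ⟨n, y, hy⟩ := IsPRadical.pow_mem i p b
    exact ⟨p ^ n, pow_pos (Fact.out : p.Prime).pos n, y, hy⟩
  · exact pNilradical_le_nilradical (IsPRadical.ker_le i p ha)

end Groth.Agent.PerfClosure23
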